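import Mathlib
import Cfsg.Agent.Lib.Lead.U5.E4

/-!
# Project UX (leader helper2), piece FR62, part 1 : the concrete check over `F_4`. (`lead`)

The set `𝓡` of vectors of `F_4^6` which have weight `2`, or weight `6` and product of the coordinates `1`
(the `126 · 3` centres of the transvections of `3.U_4(3).2`), is preserved by the transvection `x ↦ x + (Σ x_i) (1,…,1)`.
-/

set_option autoImplicit false
set_option maxRecDepth 100000

namespace Cfsg.Agent.Lib.Lead.UXFR62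

open Cfsg.Agent.Lib.Lead.U5

/-- conjunction over the four elements of `E4` -/
def allE4 (p : E4 → Bool) : Bool := p E4.z && p E4.o && p E4.a && p E4.b

theorem allE4_spec {p : E4 → Bool} (h : allE4 p = true) (x : E4) : p x = true := by
  unfold allE4 at h
  simp only [Bool.and_eq_true] at h
  obtain ⟨⟨⟨h1, h2⟩, h3⟩, h4⟩ := h
  cases x <;> assumption

def nz (x : E4) : ℕ := if x = E4.z then 0 else 1

def wt6 (x0 x1 x2 x3 x4 x5 : E4) : ℕ := nz x0 + nz x1 + nz x2 + nz x3 + nz x4 + nz x5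

def prod6 (x0 x1 x2 x3 x4 x5 : E4) : E4 := E4.mul (E4.mul (E4.mul (E4.mul (E4.mul x0 x1) x2) x3) x4) x5

def sum6 (x0 x1 x2 x3 x4 x5 : E4) : E4 := E4.add (E4.add (E4.add (E4.add (E4.add x0 x1) x2) x3) x4) x5

/-- membership in `𝓡` -/
def inR6 (x0 x1 x2 x3 x4 x5 : E4) : Bool :=
  (wt6 x0 x1 x2 x3 x4 x5 == 2) || (wt6 x0 x1 x2 x3 x4 x5 == 6 && prod6 x0 x1 x2 x3 x4 x5 == E4.o)

def stepT (x0 x1 x2 x3 x4 x5 : E4) : Bool :=
  !(inR6 x0 x1 x2 x3 x4 x5) ||
    inR6 (E4.add x0 (sum6 x0 x1 x2 x3 x4 x5)) (E4.add x1 (sum6 x0 x1 x2 x3 x4 x5))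
      (E4.add x2 (sum6 x0 x1 x2 x3 x4 x5)) (E4.add x3 (sum6 x0 x1 x2 x3 x4 x5))
      (E4.add x4 (sum6 x0 x1 x2 x3 x4 x5)) (E4.add x5 (sum6 x0 x1 x2 x3 x4 x5))

def chkT : Bool :=
  allE4 fun x0 => allE4 fun x1 => allE4 fun x2 => allE4 fun x3 => allE4 fun x4 => allE4 fun x5 =>
    stepT x0 x1 x2 x3 x4 x5

theorem chkT_ok : chkT = true := by decide +kernel

theorem stepT_ok (x0 x1 x2 x3 x4 x5 : E4) : stepT x0 x1 x2 x3 x4 x5 = true :=
  allE4_spec (allE4_spec (allE4_spec (allE4_spec (allE4_spec (allE4_spec chkT_ok x0) x1) x2) x3) x4) x5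

theorem inR6_start : inR6 E4.o E4.a E4.z E4.z E4.z E4.z = true := by decide

theorem inR6_end : inR6 E4.a E4.o E4.b E4.b E4.z E4.z = false := by decide

end Cfsg.Agent.Lib.Lead.UXFR62
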