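import Mathlib
import Cfsg.Prelude.Def_GeometricClasses
import Cfsg.Agent.Lib.Lead.ASCU.Defs
import Cfsg.Agent.Lib.Helper16.UnitaryFixed
import Cfsg.Agent.Lib.Lead.UXFR62.Conc

/-!
# Project UX (leader helper2), piece FR62, part 2 : the abstract set `𝓡 ⊆ F^6`, `|F| = 4`, and two unitary
transvections. (`lead`)
-/

set_option autoImplicit false

namespace Cfsg.Agent.Lib.Lead.UXFR62

open Matrix Cfsg Cfsg.Geo Cfsg.Agent.Lib.Lead.U5 Cfsg.Agent.Lib.Helper16 Cfsg.Agent.Lib.Lead.ASCU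
open scoped MatrixGroups

variable {F : Type*} [Field F]

/-- `0` for zero, `1` otherwise -/
noncomputable def nzF (a : F) : ℕ := by
  classical
  exact if a = 0 then 0 else 1

theorem nzF_zero : nzF (0 : F) = 0 := by
  classical
  unfold nzF
  simp

theorem nzF_ne {a : F} (h : a ≠ 0) : nzF a = 1 := by
  classical
  unfold nzF
  simp [h]

theorem nzF_mul {c a : F} (hc : c ≠ 0) : nzF (c * a) = nzF a := by
  by_cases ha : a = 0
  · rw [ha, mul_zero]
  · rw [nzF_ne ha, nzF_ne (mul_ne_zero hc ha)]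

/-- the weight of a vector -/
noncomputable def wtF (x : Fin 6 → F) : ℕ := ∑ i, nzF (x i)

/-- the set `𝓡` -/
def RR : Set (Fin 6 → F) := {x | wtF x = 2 ∨ (wtF x = 6 ∧ ∏ i, x i = 1)}

/-- the abstract vector of a concrete one -/
def toV (ω : F) (e : Fin 6 → E4) : Fin 6 → F := fun i => iota ω (e i)

section transfer

variable {ω : F} (h2 : (2 : F) = 0) (hω : ω ^ 2 + ω + 1 = 0)

include h2 hω in
theorem iota_eq_zero (x : E4) : iota ω x = 0 ↔ x = E4.z := by
  constructor
  · intro h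
    exact iota_injective h2 hω (h.trans (rfl : (0 : F) = iota ω E4.z))
  · intro h
    rw [h]; rfl

include h2 hω in
theorem iota_eq_one (x : E4) : iota ω x = 1 ↔ x = E4.o := by
  constructor
  · intro h
    exact iota_injective h2 hω (h.trans (rfl : (1 : F) = iota ω E4.o))
  · intro h
    rw [h]; rfl

include h2 hω in
theorem nzF_iota (x : E4) : nzF (iota ω x) = nz x := by
  unfold nz
  by_cases h : x = E4.z
  · rw [if_pos h, h]
    exact nzF_zero
  · rw [if_neg h]
    exact nzF_ne (fun h' => h ((iota_eq_zero h2 hω x).mp h'))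

include h2 hω in
theorem wtF_toV (e : Fin 6 → E4) : wtF (toV ω e) = wt6 (e 0) (e 1) (e 2) (e 3) (e 4) (e 5) := by
  unfold wtF wt6 toV
  rw [Fin.sum_univ_six]
  simp only [nzF_iota h2 hω]

include h2 hω in
theorem prod_toV (e : Fin 6 → E4) : ∏ i, toV ω e i = iota ω (prod6 (e 0) (e 1) (e 2) (e 3) (e 4) (e 5)) := by
  unfold prod6 toV
  rw [Fin.prod_univ_six]
  simp only [iota_mul h2 hω]

include h2 in
theorem sum_toV (e : Fin 6 → E4) : ∑ i, toV ω e i = iota ω (sum6 (e 0) (e 1) (e 2) (e 3) (e 4) (e 5)) := by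
  unfold sum6 toV
  rw [Fin.sum_univ_six]
  simp only [iota_add h2]

include h2 hω in
theorem mem_RR_toV (e : Fin 6 → E4) :
    toV ω e ∈ (RR : Set (Fin 6 → F)) ↔ inR6 (e 0) (e 1) (e 2) (e 3) (e 4) (e 5) = true := by
  unfold RR inR6
  simp only [Set.mem_setOf_eq, Bool.or_eq_true, Bool.and_eq_true, beq_iff_eq]
  rw [wtF_toV h2 hω, prod_toV h2 hω, iota_eq_one h2 hω]

end transfer

/-! ## the first transvection: centre `(1,…,1)` -/

/-- the all-ones matrix -/
def Jm (F : Type*) [Field F] : Matrix (Fin 6) (Fin 6) F := Matrix.of fun _ _ => 1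

/-- the transvection `x ↦ x + (Σ x_i) (1,…,1)` -/
def Tm (F : Type*) [Field F] : Matrix (Fin 6) (Fin 6) F := 1 + Jm F

theorem Tm_mulVec (x : Fin 6 → F) (i : Fin 6) : (Tm F *ᵥ x) i = x i + ∑ j, x j := by
  unfold Tm
  rw [Matrix.add_mulVec, Matrix.one_mulVec, Pi.add_apply]
  congr 1
  simp [Jm, Matrix.mulVec, dotProduct]

theorem Tm_apply (i j : Fin 6) : Tm F i j = (if i = j then 1 else 0) + 1 := by
  unfold Tm Jm
  rw [Matrix.add_apply, Matrix.one_apply, Matrix.of_apply]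

theorem Tm_mul_Tm (h2 : (2 : F) = 0) : Tm F * Tm F = 1 := by
  have hJJ : Jm F * Jm F = (6 : F) • Jm F := by
    ext i j
    simp [Jm, Matrix.mul_apply]
  have hz : Jm F + Jm F + (6 : F) • Jm F = 0 := by
    ext i j
    simp only [Jm, Matrix.add_apply, Matrix.smul_apply, Matrix.of_apply, Matrix.zero_apply, smul_eq_mul]
    linear_combination 4 * h2
  unfold Tm
  rw [add_mul, mul_add, mul_add, one_mul, mul_one, Matrix.one_mul, hJJ]
  have : (1 : Matrix (Fin 6) (Fin 6) F) + Jm F + (Jm F + (6 : F) • Jm F) = 1 + (Jm F + Jm F + (6 : F) • Jm F) := by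
    abel
  rw [this, hz, add_zero]

theorem sq_add_of_idem (h2 : (2 : F) = 0) {a b : F} (ha : a * a = a) (hb : b * b = b) : (a + b) ^ 2 = a + b := by
  linear_combination ha + hb + a * b * h2

theorem ite_idem (p : Prop) [Decidable p] : (if p then (1 : F) else 0) * (if p then 1 else 0) = if p then 1 else 0 := by
  split_ifs <;> simp

theorem Tm_sq_entry (h2 : (2 : F) = 0) (i j : Fin 6) : (Tm F i j) ^ 2 = Tm F i j := by
  rw [Tm_apply]
  exact sq_add_of_idem h2 (ite_idem _) (one_mul 1)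

theorem Tm_transpose : (Tm F)ᵀ = Tm F := by
  ext i j
  rw [Matrix.transpose_apply, Tm_apply, Tm_apply]
  by_cases h : i = j
  · subst h; rfl
  · rw [if_neg h, if_neg (fun h' => h h'.symm)]

theorem Tm_UMat (h2 : (2 : F) = 0) : UMat 2 (Tm F) := by
  intro i j
  have h1 : (∑ l, Tm F l i * (Tm F l j) ^ 2) = ((Tm F)ᵀ * Tm F) i j := by
    rw [Matrix.mul_apply]
    apply Finset.sum_congr rfl
    intro l _
    rw [Tm_sq_entry h2, Matrix.transpose_apply]
  rw [h1, Tm_transpose, Tm_mul_Tm h2, Matrix.one_apply]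

/-- an involutory matrix over a field of characteristic two has determinant one -/
theorem det_eq_one_of_sq (h2 : (2 : F) = 0) {n : ℕ} (M : Matrix (Fin n) (Fin n) F) (h : M * M = 1) : M.det = 1 := by
  have hd : M.det * M.det = 1 := by rw [← Matrix.det_mul, h, Matrix.det_one]
  have : (M.det - 1) ^ 2 = 0 := by linear_combination hd + (1 - M.det) * h2
  have := pow_eq_zero_iff (two_ne_zero) |>.mp this
  exact sub_eq_zero.mp this

theorem mem_SL_iff' {n : ℕ} (g : GL (Fin n) F) :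
    g ∈ specialLinear (Fin n) F ↔ Matrix.det (g : Matrix (Fin n) (Fin n) F) = 1 := by
  unfold specialLinear
  rw [MonoidHom.mem_ker]
  constructor
  · intro h
    have := congrArg Units.val h
    simpa using this
  · intro h
    apply Units.ext
    simpa using h

/-- the first transvection as an element of `GL` -/
def Tg (h2 : (2 : F) = 0) : GL (Fin 6) F := ⟨Tm F, Tm F, Tm_mul_Tm h2, Tm_mul_Tm h2⟩

theorem Tg_val (h2 : (2 : F) = 0) : ((Tg h2 : GL (Fin 6) F) : Matrix (Fin 6) (Fin 6) F) = Tm F := rfl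

theorem Tg_inv (h2 : (2 : F) = 0) : (Tg h2)⁻¹ = Tg h2 := by
  apply inv_eq_of_mul_eq_one_right
  apply Units.ext
  rw [Units.val_mul, Tg_val, Tm_mul_Tm h2]
  rfl

theorem Tg_mem_SU (h2 : (2 : F) = 0) : Tg h2 ∈ SUg 6 F 2 := by
  haveI : CharP F 2 := CharTwo.of_one_ne_zero_of_two_eq_zero one_ne_zero h2
  refine Subgroup.mem_inf.mpr ⟨?_, ?_⟩
  · rw [mem_GU_iff_UMat (p := 2) (a := 1) Nat.prime_two (by norm_num) (by norm_num)]
    exact Tm_UMat h2
  · rw [mem_SL_iff']
    exact det_eq_one_of_sq h2 _ (Tm_mul_Tm h2)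

/-! ## the second transvection: centre `(1,1,1,1,0,0)` -/

/-- ones on the first `4 × 4` block -/
def J4 (F : Type*) [Field F] : Matrix (Fin 6) (Fin 6) F :=
  Matrix.of fun i j => if (i.val < 4 ∧ j.val < 4) then 1 else 0

def Tm' (F : Type*) [Field F] : Matrix (Fin 6) (Fin 6) F := 1 + J4 F

theorem Tm'_apply (i j : Fin 6) : Tm' F i j = (if i = j then 1 else 0) + (if (i.val < 4 ∧ j.val < 4) then 1 else 0) := by
  unfold Tm' J4
  rw [Matrix.add_apply, Matrix.one_apply, Matrix.of_apply]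

theorem Tm'_mulVec (x : Fin 6 → F) (i : Fin 6) :
    (Tm' F *ᵥ x) i = x i + (if i.val < 4 then x 0 + x 1 + x 2 + x 3 else 0) := by
  unfold Tm'
  rw [Matrix.add_mulVec, Matrix.one_mulVec, Pi.add_apply]
  congr 1
  simp only [J4, Matrix.mulVec, dotProduct, Matrix.of_apply, Fin.sum_univ_six]
  by_cases h : i.val < 4
  · simp [h]
  · simp [h]

theorem Tm'_mul_Tm' (h2 : (2 : F) = 0) : Tm' F * Tm' F = 1 := by
  have hJJ : J4 F * J4 F = (4 : F) • J4 F := by
    ext i j
    simp only [J4, Matrix.mul_apply, Matrix.of_apply, Fin.sum_univ_six, Matrix.smul_apply, smul_eq_mul]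
    by_cases hi : i.val < 4 <;> by_cases hj : j.val < 4 <;> simp [hi, hj] <;> norm_num
  have hz : J4 F + J4 F + (4 : F) • J4 F = 0 := by
    ext i j
    simp only [Matrix.add_apply, Matrix.smul_apply, Matrix.zero_apply, smul_eq_mul]
    linear_combination 3 * (J4 F i j) * h2
  unfold Tm'
  rw [add_mul, mul_add, mul_add, one_mul, mul_one, Matrix.one_mul, hJJ]
  have : (1 : Matrix (Fin 6) (Fin 6) F) + J4 F + (J4 F + (4 : F) • J4 F) = 1 + (J4 F + J4 F + (4 : F) • J4 F) := by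
    abel
  rw [this, hz, add_zero]

theorem Tm'_sq_entry (h2 : (2 : F) = 0) (i j : Fin 6) : (Tm' F i j) ^ 2 = Tm' F i j := by
  rw [Tm'_apply]
  exact sq_add_of_idem h2 (ite_idem _) (ite_idem _)

theorem Tm'_transpose : (Tm' F)ᵀ = Tm' F := by
  ext i j
  rw [Matrix.transpose_apply, Tm'_apply, Tm'_apply]
  by_cases h : i = j
  · subst h; rfl
  · rw [if_neg h, if_neg (fun h' => h h'.symm)]
    congr 1
    by_cases hi : i.val < 4 <;> by_cases hj : j.val < 4 <;> simp [hi, hj]

theorem Tm'_UMat (h2 : (2 : F) = 0) : UMat 2 (Tm' F) := by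
  intro i j
  have h1 : (∑ l, Tm' F l i * (Tm' F l j) ^ 2) = ((Tm' F)ᵀ * Tm' F) i j := by
    rw [Matrix.mul_apply]
    apply Finset.sum_congr rfl
    intro l _
    rw [Tm'_sq_entry h2, Matrix.transpose_apply]
  rw [h1, Tm'_transpose, Tm'_mul_Tm' h2, Matrix.one_apply]

def Tg' (h2 : (2 : F) = 0) : GL (Fin 6) F := ⟨Tm' F, Tm' F, Tm'_mul_Tm' h2, Tm'_mul_Tm' h2⟩

theorem Tg'_val (h2 : (2 : F) = 0) : ((Tg' h2 : GL (Fin 6) F) : Matrix (Fin 6) (Fin 6) F) = Tm' F := rfl

theorem Tg'_mem_SU (h2 : (2 : F) = 0) : Tg' h2 ∈ SUg 6 F 2 := by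
  haveI : CharP F 2 := CharTwo.of_one_ne_zero_of_two_eq_zero one_ne_zero h2
  refine Subgroup.mem_inf.mpr ⟨?_, ?_⟩
  · rw [mem_GU_iff_UMat (p := 2) (a := 1) Nat.prime_two (by norm_num) (by norm_num)]
    exact Tm'_UMat h2
  · rw [mem_SL_iff']
    exact det_eq_one_of_sq h2 _ (Tm'_mul_Tm' h2)

/-! ## action on `𝓡` -/

section act

variable {ω : F} (h2 : (2 : F) = 0) (hω : ω ^ 2 + ω + 1 = 0) (hsurj : ∀ x : F, ∃ e : E4, iota ω e = x)

include h2 hω hsurj in
/-- the first transvection preserves `𝓡` -/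
theorem Tm_RR (x : Fin 6 → F) (hx : x ∈ (RR : Set (Fin 6 → F))) : Tm F *ᵥ x ∈ (RR : Set (Fin 6 → F)) := by
  choose e he using fun i => hsurj (x i)
  have hxe : x = toV ω e := by
    funext i
    exact (he i).symm
  rw [hxe] at hx ⊢
  set s : E4 := sum6 (e 0) (e 1) (e 2) (e 3) (e 4) (e 5) with hs
  have hT : Tm F *ᵥ toV ω e = toV ω (fun i => E4.add (e i) s) := by
    funext i
    rw [Tm_mulVec, sum_toV h2]
    unfold toV
    rw [iota_add h2]
  rw [hT, mem_RR_toV h2 hω]
  rw [mem_RR_toV h2 hω] at hx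
  have := stepT_ok (e 0) (e 1) (e 2) (e 3) (e 4) (e 5)
  unfold stepT at this
  rw [hx] at this
  simpa using this

include h2 hω in
/-- the second transvection does not preserve `𝓡` -/
theorem Tm'_not_RR : ∃ x : Fin 6 → F, x ∈ (RR : Set (Fin 6 → F)) ∧ Tm' F *ᵥ x ∉ (RR : Set (Fin 6 → F)) := by
  refine ⟨toV ω ![E4.o, E4.a, E4.z, E4.z, E4.z, E4.z], ?_, ?_⟩
  · rw [mem_RR_toV h2 hω]
    exact inR6_start
  · have hT : Tm' F *ᵥ toV ω ![E4.o, E4.a, E4.z, E4.z, E4.z, E4.z] = toV ω ![E4.a, E4.o, E4.b, E4.b, E4.z, E4.z] := by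
      funext i
      rw [Tm'_mulVec]
      fin_cases i <;> simp [toV, iota] <;>
        first
          | ring1
          | linear_combination h2
          | linear_combination ω * h2
          | linear_combination (-1 : F) * h2
          | linear_combination (-ω) * h2
          | linear_combination (ω + 1) * h2
          | linear_combination (ω - 1) * h2
          | linear_combination (1 - ω) * h2
    rw [hT, mem_RR_toV h2 hω]
    have := inR6_end
    simpa using this

end act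

end Cfsg.Agent.Lib.Lead.UXFR62
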