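import Mathlib
import Cfsg.Prelude.Def_GeometricClasses
import Cfsg.Agent.Lib.Helper27.ASC.Defs
import Cfsg.Agent.Lib.Lead.ASCU.Defs
import Cfsg.Agent.Lib.helper2.UXDefs
import Cfsg.Agent.Lib.Lead.U5.Expl3
import Cfsg.Agent.Lib.Lead.UXFR62.Abs

/-!
# Project UX (leader helper2), piece FR62, part 3 : the stabiliser of the standard frame of `F^6`, `|F| = 4`, is not
maximal in `SU_6(2)` : it lies in the stabiliser of the set `𝓡` (126 isotropic points). (`lead`)
-/

set_option autoImplicit false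

namespace Cfsg.Agent.Lib.Lead.UXFR62

open Matrix Cfsg Cfsg.Geo Cfsg.Agent.Lib.Lead.U5 Cfsg.Agent.Lib.Helper16 Cfsg.Agent.Lib.Lead.ASCU
open Cfsg.Agent.Lib.helper2.UX
open scoped MatrixGroups

variable {F : Type*} [Field F]

/-- the standard frame -/
def stdFr (F : Type*) [Field F] : Fin 6 → Submodule F (Fin 6 → F) :=
  fun i : Fin 6 => Submodule.span F {Pi.single i (1 : F)}

/-- an element of the stabiliser of the standard frame is monomial -/
theorem mono_of_mem (g : GL (Fin 6) F) (hg : g ∈ decompositionStabilizer (stdFr F)) :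
    ∃ (σ : Equiv.Perm (Fin 6)) (lam : Fin 6 → F),
      ∀ j i, (g : Matrix (Fin 6) (Fin 6) F) j i = if j = σ i then lam i else 0 := by
  obtain ⟨σ, hσ⟩ := hg
  have h1 : ∀ i, ∃ c : F, (g : Matrix (Fin 6) (Fin 6) F) *ᵥ Pi.single i 1 = c • Pi.single (σ i) 1 := by
    intro i
    have hmem : (g : Matrix (Fin 6) (Fin 6) F) *ᵥ Pi.single i 1 ∈ (stdFr F (σ i)) := by
      rw [← hσ i]
      refine Submodule.mem_map.mpr ⟨Pi.single i 1, Submodule.subset_span rfl, ?_⟩
      rw [Matrix.toLin'_apply]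
    unfold stdFr at hmem
    rw [Submodule.mem_span_singleton] at hmem
    obtain ⟨c, hc⟩ := hmem
    exact ⟨c, hc.symm⟩
  choose lam hlam using h1
  refine ⟨σ, lam, fun j i => ?_⟩
  have := congrFun (hlam i) j
  rw [Matrix.mulVec_single_one] at this
  rw [show (g : Matrix (Fin 6) (Fin 6) F) j i = (g : Matrix (Fin 6) (Fin 6) F).col i j from rfl, this]
  simp [Pi.single_apply]

section mono

variable {g : Matrix (Fin 6) (Fin 6) F} {σ : Equiv.Perm (Fin 6)} {lam : Fin 6 → F}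
  (hg : ∀ j i, g j i = if j = σ i then lam i else 0)

include hg in
theorem mono_mulVec (x : Fin 6 → F) (i : Fin 6) : (g *ᵥ x) (σ i) = lam i * x i := by
  change ∑ k, g (σ i) k * x k = lam i * x i
  rw [Finset.sum_eq_single i]
  · rw [hg, if_pos rfl]
  · intro k _ hk
    rw [hg, if_neg (fun h => hk (σ.injective h).symm), zero_mul]
  · intro h; exact absurd (Finset.mem_univ i) h

include hg in
theorem mono_det (h2 : (2 : F) = 0) : ∏ i, lam i = g.det := by
  have h1 : g.submatrix σ id = Matrix.diagonal lam := by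
    ext i k
    rw [Matrix.submatrix_apply, id, hg, Matrix.diagonal_apply]
    by_cases h : i = k
    · rw [if_pos (by rw [h]), if_pos h, h]
    · rw [if_neg (fun h' => h (σ.injective h')), if_neg h]
  have h3 := Matrix.det_permute σ g
  rw [h1, Matrix.det_diagonal] at h3
  rw [h3]
  rcases Int.units_eq_one_or (Equiv.Perm.sign σ) with hs | hs
  · rw [hs]; simp
  · rw [hs]
    have : (-1 : F) = 1 := by linear_combination (-1 : F) * h2
    simp [this]

include hg in
theorem mono_wt (hlam : ∀ i, lam i ≠ 0) (x : Fin 6 → F) : wtF (g *ᵥ x) = wtF x := by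
  unfold wtF
  rw [← Equiv.sum_comp σ (fun j => nzF ((g *ᵥ x) j))]
  apply Finset.sum_congr rfl
  intro i _
  rw [mono_mulVec hg, nzF_mul (hlam i)]

include hg in
theorem mono_prod (hdet : ∏ i, lam i = 1) (x : Fin 6 → F) : ∏ j, (g *ᵥ x) j = ∏ i, x i := by
  rw [← Equiv.prod_comp σ (fun j => (g *ᵥ x) j)]
  rw [Finset.prod_congr rfl (fun i _ => mono_mulVec hg x i), Finset.prod_mul_distrib, hdet, one_mul]

include hg in
theorem mono_RR (h2 : (2 : F) = 0) (hdet : g.det = 1) (x : Fin 6 → F) :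
    g *ᵥ x ∈ (RR : Set (Fin 6 → F)) ↔ x ∈ (RR : Set (Fin 6 → F)) := by
  have hp : ∏ i, lam i = 1 := by rw [mono_det hg h2, hdet]
  have hlam : ∀ i, lam i ≠ 0 := by
    intro i h
    have : ∏ i, lam i = 0 := Finset.prod_eq_zero (Finset.mem_univ i) h
    rw [hp] at this
    exact one_ne_zero this
  unfold RR
  simp only [Set.mem_setOf_eq]
  rw [mono_wt hg hlam, mono_prod hg hp]

end mono

/-- the stabiliser of the set `𝓡` -/
def KR (F : Type*) [Field F] : Subgroup (GL (Fin 6) F) where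
  carrier := {g | ∀ x : Fin 6 → F, (g : Matrix (Fin 6) (Fin 6) F) *ᵥ x ∈ (RR : Set (Fin 6 → F)) ↔ x ∈ (RR : Set (Fin 6 → F))}
  one_mem' := by
    intro x
    simp
  mul_mem' := by
    intro a b ha hb x
    rw [Units.val_mul, ← Matrix.mulVec_mulVec, ha, hb]
  inv_mem' := by
    intro a ha x
    have := ha ((a⁻¹ : GL (Fin 6) F).val *ᵥ x)
    rw [Matrix.mulVec_mulVec, ← Units.val_mul, mul_inv_cancel, Units.val_one, Matrix.one_mulVec] at this
    exact this.symm

theorem mem_KR (g : GL (Fin 6) F) : g ∈ KR F ↔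
    ∀ x : Fin 6 → F, (g : Matrix (Fin 6) (Fin 6) F) *ᵥ x ∈ (RR : Set (Fin 6 → F)) ↔ x ∈ (RR : Set (Fin 6 → F)) :=
  Iff.rfl

theorem stab_le_KR (h2 : (2 : F) = 0) : decompositionStabilizer (stdFr F) ⊓ SUg 6 F 2 ≤ KR F ⊓ SUg 6 F 2 := by
  intro g hg
  obtain ⟨hg1, hg2⟩ := Subgroup.mem_inf.mp hg
  refine Subgroup.mem_inf.mpr ⟨?_, hg2⟩
  obtain ⟨σ, lam, hmono⟩ := mono_of_mem g hg1
  have hdet : (g : Matrix (Fin 6) (Fin 6) F).det = 1 := (mem_SL_iff' g).mp (Subgroup.mem_inf.mp hg2).2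
  intro x
  exact mono_RR hmono h2 hdet x

theorem Tg_not_stab (h2 : (2 : F) = 0) : Tg h2 ∉ decompositionStabilizer (stdFr F) := by
  intro h
  obtain ⟨σ, lam, hmono⟩ := mono_of_mem _ h
  rw [Tg_val] at hmono
  have h1 := hmono 1 0
  have h2' := hmono 2 0
  rw [Tm_apply] at h1 h2'
  have e1 : (1 : Fin 6) ≠ 0 := by decide
  have e2 : (2 : Fin 6) ≠ 0 := by decide
  rw [if_neg e1, zero_add] at h1
  rw [if_neg e2, zero_add] at h2'
  by_cases c1 : (1 : Fin 6) = σ 0
  · have c2 : (2 : Fin 6) ≠ σ 0 := by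
      rw [← c1]; decide
    rw [if_neg c2] at h2'
    exact one_ne_zero h2'
  · rw [if_neg c1] at h1
    exact one_ne_zero h1

section final

variable [Fintype F]

theorem notMax_std (hF : Fintype.card F = 4) :
    NotMax (SUg 6 F 2) (decompositionStabilizer (stdFr F) ⊓ SUg 6 F 2) := by
  obtain ⟨h2, ω, hω, hsurj⟩ := exists_omega (F := F) (by rw [hF]; norm_num)
  refine ⟨KR F ⊓ SUg 6 F 2, ?_, ?_⟩
  · refine lt_of_le_of_ne (stab_le_KR h2) ?_
    intro heq
    have hT : Tg h2 ∈ KR F ⊓ SUg 6 F 2 := by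
      refine Subgroup.mem_inf.mpr ⟨?_, Tg_mem_SU h2⟩
      intro x
      rw [Tg_val]
      constructor
      · intro hx
        have := Tm_RR h2 hω hsurj _ hx
        rwa [Matrix.mulVec_mulVec, Tm_mul_Tm h2, Matrix.one_mulVec] at this
      · exact Tm_RR h2 hω hsurj x
    rw [← heq] at hT
    exact Tg_not_stab h2 (Subgroup.mem_inf.mp hT).1
  · refine lt_of_le_of_ne inf_le_right ?_
    intro heq
    have hT : Tg' h2 ∈ KR F ⊓ SUg 6 F 2 := by
      rw [heq]; exact Tg'_mem_SU h2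
    obtain ⟨x, hx, hnx⟩ := Tm'_not_RR (F := F) h2 hω
    have := ((Subgroup.mem_inf.mp hT).1 x).mpr hx
    rw [Tg'_val] at this
    exact hnx this

end final

end Cfsg.Agent.Lib.Lead.UXFR62
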