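import Mathlib
import Cfsg.Prelude.Def_GeometricClasses
import Cfsg.Agent.Lib.Helper27.ASC.Defs
import Cfsg.Agent.Lib.Lead.ASCU.Defs
import Cfsg.Agent.Lib.helper2.UXDefs
import Cfsg.Agent.Lib.Helper10.U3FRSTD
import Cfsg.Agent.Lib.Helper28.Herm

/-!
# Project UX (leader helper2), piece FR62, part 4 : an orthogonal frame of non-degenerate lines of the unitary space
`F^n` is `GU`-conjugate to the standard one (helper10's `frame_std`, any `n`), and `NotMax` is transported along. (`lead`)
-/

set_option autoImplicit false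
set_option linter.unusedVariables false

namespace Cfsg.Agent.Lib.Lead.UXFR62

open Cfsg Cfsg.Geo Cfsg.Agent.Lib.Helper27.ASC Cfsg.Agent.Lib.Lead.ASCU Cfsg.Agent.Lib.helper2.UX
open scoped MatrixGroups Matrix

variable {n : ℕ} {F : Type*} [Field F]

/-- Transport of a decomposition stabiliser along a change of basis. -/
theorem frn_conj {t : ℕ} (B : GL (Fin n) F) (D D' : Fin t → Submodule F (Fin n → F))
    (hB : ∀ i, (D' i).map (Matrix.toLin' (B : Matrix (Fin n) (Fin n) F)) = D i) (g : GL (Fin n) F) :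
    g ∈ decompositionStabilizer D ↔ B⁻¹ * g * B ∈ decompositionStabilizer D' := by
  have hBinv : ∀ i, (D i).map (Matrix.toLin' ((B⁻¹ : GL (Fin n) F) : Matrix (Fin n) (Fin n) F)) = D' i := by
    intro i
    rw [← hB i, ← Submodule.map_comp, ← Matrix.toLin'_mul, ← Units.val_mul, inv_mul_cancel,
      Units.val_one, Matrix.toLin'_one, Submodule.map_id]
  constructor
  · rintro ⟨σ, hσ⟩
    refine ⟨σ, fun i => ?_⟩
    rw [Units.val_mul, Units.val_mul, Matrix.toLin'_mul, Matrix.toLin'_mul, Submodule.map_comp,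
      Submodule.map_comp, hB, hσ, hBinv]
  · rintro ⟨σ, hσ⟩
    refine ⟨σ, fun i => ?_⟩
    have h := hσ i
    rw [Units.val_mul, Units.val_mul, Matrix.toLin'_mul, Matrix.toLin'_mul, Submodule.map_comp,
      Submodule.map_comp, hB] at h
    have h2 := congrArg (fun W => W.map (Matrix.toLin' (B : Matrix (Fin n) (Fin n) F))) h
    change Submodule.map (Matrix.toLin' (B : Matrix (Fin n) (Fin n) F)) _ =
      Submodule.map (Matrix.toLin' (B : Matrix (Fin n) (Fin n) F)) _ at h2
    rw [hB, ← Submodule.map_comp, ← Matrix.toLin'_mul, ← Units.val_mul, mul_inv_cancel,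
      Units.val_one, Matrix.toLin'_one, Submodule.map_id] at h2
    exact h2

variable [Fintype F]

/-- an orthogonal frame of non-degenerate lines is `GU`-conjugate to the standard one -/
theorem frn_std (q : ℕ) (hF : Fintype.card F = q ^ 2) (D : Fin n → Submodule F (Fin n → F))
    (hD : IsNondegenerateMDecomposition (hermForm n F q) 1 D) :
    ∃ B : GL (Fin n) F, B ∈ GU n F q ∧ ∀ g : GL (Fin n) F, g ∈ decompositionStabilizer D ↔
      B⁻¹ * g * B ∈ decompositionStabilizer (fun i : Fin n => Submodule.span F {Pi.single i (1 : F)}) := by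
  classical
  have hq0 : q ≠ 0 := by
    rintro rfl
    have h1 : 1 < Fintype.card F := Fintype.one_lt_card
    rw [hF] at h1
    omega
  -- spanning vectors
  have hspan : ∀ i, ∃ d : Fin n → F, d ∈ D i ∧ d ≠ 0 ∧ ∀ w ∈ D i, ∃ c : F, c • d = w := by
    intro i
    obtain ⟨⟨d, hd⟩, hd0, hall⟩ := finrank_eq_one_iff'.mp (hD.decomp.finrank_eq i)
    refine ⟨d, hd, fun h => hd0 (Subtype.ext h), fun w hw => ?_⟩
    obtain ⟨c, hc⟩ := hall ⟨w, hw⟩
    exact ⟨c, congrArg Subtype.val hc⟩
  choose d hdmem hd0 hdall using hspan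
  -- the norms are non-zero and fixed by `a ↦ a ^ q`
  have hnn : ∀ i, hermForm n F q (d i) (d i) ≠ 0 := by
    intro i
    obtain ⟨⟨x, hx, hfx⟩, -⟩ := hD.nondegenerate i (d i) (hdmem i) (hd0 i)
    obtain ⟨c, rfl⟩ := hdall i x hx
    rw [Cfsg.Agent.Lib.Helper28.Herm.herm_smul_left] at hfx
    exact right_ne_zero_of_mul hfx
  have hfix : ∀ i, (hermForm n F q (d i) (d i)) ^ q = hermForm n F q (d i) (d i) := fun i =>
    (Cfsg.Agent.Lib.Helper28.Herm.herm_symm hF n (d i) (d i)).symm
  have hc : ∀ i, ∃ c : F, c ^ (q + 1) = (hermForm n F q (d i) (d i))⁻¹ := by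
    intro i
    apply Cfsg.Agent.Lib.Helper16.U3.u3frstd_norm q hF
    rw [inv_pow, hfix]
  choose c hc using hc
  have hc0 : ∀ i, c i ≠ 0 := by
    intro i h
    have := hc i
    rw [h, zero_pow (by omega)] at this
    exact inv_ne_zero (hnn i) this.symm
  -- the columns
  let col : Fin n → (Fin n → F) := fun i => c i • d i
  have hgram : ∀ i j, hermForm n F q (col i) (col j) = if i = j then 1 else 0 := by
    intro i j
    simp only [col]
    rw [Cfsg.Agent.Lib.Helper28.Herm.herm_smul_left, Cfsg.Agent.Lib.Helper28.Herm.herm_smul_right]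
    by_cases hij : i = j
    · subst hij
      rw [if_pos rfl, ← mul_assoc, ← pow_succ', hc, inv_mul_cancel₀ (hnn i)]
    · rw [if_neg hij, hD.orthogonal i j hij (d i) (hdmem i) (d j) (hdmem j), mul_zero, mul_zero]
  let M : Matrix (Fin n) (Fin n) F := Matrix.of fun r i => col i r
  let Ms : Matrix (Fin n) (Fin n) F := Matrix.of fun i r => (col i r) ^ q
  have hleft : Ms * M = 1 := by
    ext i j
    rw [Matrix.mul_apply, Matrix.one_apply]
    have := hgram j i
    unfold hermForm at this
    simp only [M, Ms, Matrix.of_apply]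
    rw [← (show (∑ r, col j r * col i r ^ q) = ∑ r, col i r ^ q * col j r from
      Finset.sum_congr rfl fun r _ => mul_comm _ _), this]
    by_cases hij : i = j
    · subst hij; simp
    · rw [if_neg hij, if_neg (fun h => hij h.symm)]
  have hright : M * Ms = 1 := mul_eq_one_comm.mp hleft
  let B : GL (Fin n) F := ⟨M, Ms, hright, hleft⟩
  have hBcol : ∀ i, (B : Matrix (Fin n) (Fin n) F) *ᵥ (Pi.single i 1) = col i := by
    intro i
    ext r
    simp [B, M, Matrix.mulVec, dotProduct, Pi.single_apply]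
  have hBv : ∀ u : Fin n → F, (B : Matrix (Fin n) (Fin n) F) *ᵥ u = ∑ i, u i • col i := by
    intro u
    ext r
    simp only [B, M, Matrix.mulVec, dotProduct, Matrix.of_apply, Finset.sum_apply, Pi.smul_apply,
      smul_eq_mul]
    exact Finset.sum_congr rfl fun i _ => mul_comm _ _
  refine ⟨B, ?_, ?_⟩
  · rw [mem_GU_iff]
    intro u v
    rw [hBv u, hBv v, Cfsg.Agent.Lib.Helper28.Herm.herm_sum_left]
    unfold hermForm
    apply Finset.sum_congr rfl
    intro i _
    change hermForm n F q (u i • col i) (∑ j, v j • col j) = _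
    rw [Cfsg.Agent.Lib.Helper28.Herm.herm_sum_right hF, Finset.sum_eq_single i]
    · rw [Cfsg.Agent.Lib.Helper28.Herm.herm_smul_left, Cfsg.Agent.Lib.Helper28.Herm.herm_smul_right,
        hgram, if_pos rfl, mul_one]
    · intro j _ hji
      rw [Cfsg.Agent.Lib.Helper28.Herm.herm_smul_left, Cfsg.Agent.Lib.Helper28.Herm.herm_smul_right,
        hgram, if_neg (fun h => hji h.symm), mul_zero, mul_zero]
    · intro h; exact absurd (Finset.mem_univ i) h
  · intro g
    apply frn_conj B D (fun i : Fin n => Submodule.span F {Pi.single i (1 : F)})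
    intro i
    rw [Submodule.map_span, Set.image_singleton, Matrix.toLin'_apply, hBcol]
    apply le_antisymm
    · rw [Submodule.span_singleton_le_iff_mem]
      exact (D i).smul_mem _ (hdmem i)
    · intro w hw
      obtain ⟨a, rfl⟩ := hdall i w hw
      rw [Submodule.mem_span_singleton]
      refine ⟨a * (c i)⁻¹, ?_⟩
      simp only [col]
      rw [smul_smul, mul_assoc, inv_mul_cancel₀ (hc0 i), mul_one]

/-- `GU` normalises `SU` -/
theorem frn_su_conj (q : ℕ) (B : GL (Fin n) F) (hB : B ∈ GU n F q) (g : GL (Fin n) F) :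
    g ∈ SUg n F q ↔ B⁻¹ * g * B ∈ SUg n F q := by
  have hsl : ∀ x : GL (Fin n) F, x ∈ specialLinear (Fin n) F ↔ Matrix.GeneralLinearGroup.det x = 1 := by
    intro x
    unfold specialLinear
    rw [MonoidHom.mem_ker]
  have hBi : B⁻¹ ∈ GU n F q := (GU n F q).inv_mem hB
  constructor
  · intro hg
    obtain ⟨h1, h2⟩ := Subgroup.mem_inf.mp hg
    refine Subgroup.mem_inf.mpr ⟨(GU n F q).mul_mem ((GU n F q).mul_mem hBi h1) hB, ?_⟩
    rw [hsl] at h2 ⊢
    rw [map_mul, map_mul, h2, mul_one, ← map_mul, inv_mul_cancel, map_one]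
  · intro hg
    obtain ⟨h1, h2⟩ := Subgroup.mem_inf.mp hg
    have e : g = B * (B⁻¹ * g * B) * B⁻¹ := by group
    refine Subgroup.mem_inf.mpr ⟨?_, ?_⟩
    · rw [e]
      exact (GU n F q).mul_mem ((GU n F q).mul_mem hB h1) hBi
    · rw [hsl] at h2 ⊢
      rw [map_mul, map_mul] at h2
      have h3 : Matrix.GeneralLinearGroup.det (B⁻¹ : GL (Fin n) F) * Matrix.GeneralLinearGroup.det B = 1 := by
        rw [← map_mul, inv_mul_cancel, map_one]
      calc Matrix.GeneralLinearGroup.det g
          = Matrix.GeneralLinearGroup.det (B⁻¹ : GL (Fin n) F) * Matrix.GeneralLinearGroup.det g *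
              Matrix.GeneralLinearGroup.det B := by
            rw [mul_comm (Matrix.GeneralLinearGroup.det (B⁻¹ : GL (Fin n) F)), mul_assoc, h3, mul_one]
        _ = 1 := h2

/-- transport of `NotMax` along a conjugation -/
theorem frn_notMax_conj {G : Type*} [Group G] (B : G) (S H H' : Subgroup G)
    (hS : ∀ g, g ∈ S ↔ B⁻¹ * g * B ∈ S) (hH : ∀ g, g ∈ H ↔ B⁻¹ * g * B ∈ H')
    (h : NotMax S H') : NotMax S H := by
  obtain ⟨K', hHK, hKS⟩ := h
  -- `K = B K' B⁻¹`
  let φ : G ≃* G := MulAut.conj B⁻¹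
  have hφ : ∀ g, φ g = B⁻¹ * g * B := by
    intro g
    simp [φ, MulAut.conj_apply]
  let K : Subgroup G := K'.comap φ.toMonoidHom
  have hK : ∀ g, g ∈ K ↔ B⁻¹ * g * B ∈ K' := by
    intro g
    rw [← hφ g]
    exact Iff.rfl
  have hback : ∀ x : G, B⁻¹ * (B * x * B⁻¹) * B = x := by
    intro x; group
  refine ⟨K, ?_, ?_⟩
  · constructor
    · intro g hg
      rw [hK]
      exact hHK.le ((hH g).mp hg)
    · intro hle
      apply hHK.not_ge
      intro x hx
      have h1 : B * x * B⁻¹ ∈ K := by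
        rw [hK, hback]; exact hx
      have h2 := (hH _).mp (hle h1)
      rwa [hback] at h2
  · constructor
    · intro g hg
      rw [hS]
      exact hKS.le ((hK g).mp hg)
    · intro hle
      apply hKS.not_ge
      intro x hx
      have h1 : B * x * B⁻¹ ∈ S := by
        rw [hS, hback]; exact hx
      have h2 := (hK _).mp (hle h1)
      rwa [hback] at h2

/-- the transport: it is enough to treat the standard frame -/
theorem frn_transport (q : ℕ) (hF : Fintype.card F = q ^ 2)
    (D : Fin n → Submodule F (Fin n → F)) (hD : IsNondegenerateMDecomposition (hermForm n F q) 1 D)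
    (h : NotMax (SUg n F q)
      (decompositionStabilizer (fun i : Fin n => Submodule.span F {Pi.single i (1 : F)}) ⊓ SUg n F q)) :
    NotMax (SUg n F q) (decompositionStabilizer D ⊓ SUg n F q) := by
  obtain ⟨B, hB, hconj⟩ := frn_std q hF D hD
  refine frn_notMax_conj B _ _ _ (frn_su_conj q B hB) ?_ h
  intro g
  constructor
  · intro hg
    exact Subgroup.mem_inf.mpr ⟨(hconj g).mp (Subgroup.mem_inf.mp hg).1,
      (frn_su_conj q B hB g).mp (Subgroup.mem_inf.mp hg).2⟩
  · intro hg
    exact Subgroup.mem_inf.mpr ⟨(hconj g).mpr (Subgroup.mem_inf.mp hg).1,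
      (frn_su_conj q B hB g).mpr (Subgroup.mem_inf.mp hg).2⟩

end Cfsg.Agent.Lib.Lead.UXFR62
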